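import Mathlib

/-!
# `|det (A - q)| ≤ (q + 1) ^ l` for an integral matrix of finite order

* `natAbs_det_le`, `natAbs_det_le'` (endomorphisms of `ℤ^l`);
* `det_ne_zero` : `det (A - q)` is prime to every divisor `r > 1` of `q`.
-/

set_option autoImplicit false

namespace Cfsg.Agent.H197.Ab.DetBound

open Polynomial

/-- the eigenvalues of a matrix of finite order -/
theorem norm_root {l : ℕ} {B : Matrix (Fin l) (Fin l) ℂ} {m : ℕ} (hm : 0 < m) (hB : B ^ m = 1) {a : ℂ}
    (ha : a ∈ B.charpoly.roots) : ‖a‖ = 1 := by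
  have h1 : B.charpoly.IsRoot a := (Polynomial.mem_roots'.1 ha).2
  have h2 : (Matrix.scalar (Fin l) a - B).det = 0 := by
    rw [← Matrix.eval_charpoly]
    exact h1
  obtain ⟨v, hv, h3⟩ := Matrix.exists_mulVec_eq_zero_iff.2 h2
  have h4 : B.mulVec v = a • v := by
    rw [Matrix.sub_mulVec, sub_eq_zero] at h3
    rw [← h3, Matrix.scalar_apply, ← Matrix.smul_one_eq_diagonal, Matrix.smul_mulVec, Matrix.one_mulVec]
  have h5 : ∀ j : ℕ, (B ^ j).mulVec v = a ^ j • v := by
    intro j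
    induction j with
    | zero => rw [pow_zero, pow_zero, Matrix.one_mulVec, one_smul]
    | succ j ih => rw [pow_succ, ← Matrix.mulVec_mulVec, h4, Matrix.mulVec_smul, ih, smul_smul, pow_succ, mul_comm]
  have h6 := h5 m
  rw [hB, Matrix.one_mulVec] at h6
  have h7 : a ^ m = 1 := by
    obtain ⟨i, hi⟩ := Function.ne_iff.1 hv
    have h8 := congrFun h6 i
    rw [Pi.smul_apply, smul_eq_mul] at h8
    exact (mul_right_cancel₀ hi ((one_mul _).trans h8)).symm
  exact Complex.norm_eq_one_of_pow_eq_one h7 hm.ne'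

theorem natAbs_det_le {l : ℕ} (A : Matrix (Fin l) (Fin l) ℤ) {m : ℕ} (hm : 0 < m) (hA : A ^ m = 1) (q : ℕ) :
    (A - (q : ℤ) • (1 : Matrix (Fin l) (Fin l) ℤ)).det.natAbs ≤ (q + 1) ^ l := by
  classical
  set B : Matrix (Fin l) (Fin l) ℂ := A.map (Int.castRingHom ℂ) with hBdef
  have hBm : B ^ m = 1 := by
    rw [hBdef]
    have h1 : (Int.castRingHom ℂ).mapMatrix (A ^ m) = 1 := by rw [hA, map_one]
    rw [map_pow] at h1
    exact h1
  have hsplit : B.charpoly.Splits := IsAlgClosed.splits _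
  have hmonic : B.charpoly.Monic := B.charpoly_monic
  have h2 : B.charpoly = (B.charpoly.roots.map fun a => X - C a).prod :=
    hsplit.eq_prod_roots_of_monic hmonic
  have h3 : B.charpoly.roots.card = l := by
    rw [← hsplit.natDegree_eq_card_roots, Matrix.charpoly_natDegree_eq_dim, Fintype.card_fin]
  have h4 : ‖B.charpoly.eval (q : ℂ)‖ ≤ ((q : ℝ) + 1) ^ l := by
    have h5 : B.charpoly.eval (q : ℂ) = (B.charpoly.roots.map fun a => (q : ℂ) - a).prod := by
      conv_lhs => rw [h2]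
      rw [Polynomial.eval_multiset_prod, Multiset.map_map]
      congr 1
      refine Multiset.map_congr rfl fun a _ => ?_
      simp
    rw [h5]
    have key : ∀ s : Multiset ℂ, (∀ a ∈ s, ‖a‖ = 1) → ‖(s.map fun a => (q : ℂ) - a).prod‖ ≤ ((q : ℝ) + 1) ^ s.card := by
      intro s
      induction s using Multiset.induction_on with
      | empty => intro _; simp
      | cons a s ih =>
        intro hs
        rw [Multiset.map_cons, Multiset.prod_cons, norm_mul, Multiset.card_cons, pow_succ']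
        have h6 : ‖(q : ℂ) - a‖ ≤ (q : ℝ) + 1 := by
          refine (norm_sub_le _ _).trans ?_
          rw [hs a (Multiset.mem_cons_self a s), Complex.norm_natCast]
        exact mul_le_mul h6 (ih fun b hb => hs b (Multiset.mem_cons_of_mem hb)) (norm_nonneg _) (by positivity)
    have h7 := key B.charpoly.roots fun a ha => norm_root hm hBm ha
    rwa [h3] at h7
  rw [Matrix.eval_charpoly] at h4
  have h5 : ((A - (q : ℤ) • (1 : Matrix (Fin l) (Fin l) ℤ)).det : ℂ) =
      (-1) ^ l * (Matrix.scalar (Fin l) (q : ℂ) - B).det := by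
    have h6 : ((A - (q : ℤ) • (1 : Matrix (Fin l) (Fin l) ℤ)).det : ℂ) = (B - (q : ℂ) • (1 : Matrix (Fin l) (Fin l) ℂ)).det := by
      have h7 := RingHom.map_det (Int.castRingHom ℂ) (A - (q : ℤ) • (1 : Matrix (Fin l) (Fin l) ℤ))
      have h8 : (Int.castRingHom ℂ).mapMatrix (A - (q : ℤ) • (1 : Matrix (Fin l) (Fin l) ℤ)) =
          B - (q : ℂ) • (1 : Matrix (Fin l) (Fin l) ℂ) := by
        rw [map_sub]
        congr 1
        ext i j
        rw [RingHom.mapMatrix_apply, Matrix.map_apply, Matrix.smul_apply, Matrix.smul_apply, Matrix.one_apply,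
          Matrix.one_apply]
        split_ifs <;> simp
      rw [h8] at h7
      exact h7
    rw [h6]
    have h9 : B - (q : ℂ) • (1 : Matrix (Fin l) (Fin l) ℂ) = -(Matrix.scalar (Fin l) (q : ℂ) - B) := by
      rw [Matrix.scalar_apply, ← Matrix.smul_one_eq_diagonal, neg_sub]
    rw [h9, Matrix.det_neg, Fintype.card_fin]
  have h6 : ((A - (q : ℤ) • (1 : Matrix (Fin l) (Fin l) ℤ)).det.natAbs : ℝ) ≤ ((q : ℝ) + 1) ^ l := by
    have h7 : ((A - (q : ℤ) • (1 : Matrix (Fin l) (Fin l) ℤ)).det.natAbs : ℝ) =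
        ‖((A - (q : ℤ) • (1 : Matrix (Fin l) (Fin l) ℤ)).det : ℂ)‖ := by
      rw [Complex.norm_intCast, Nat.cast_natAbs, Int.cast_abs]
    rw [h7, h5, norm_mul, norm_pow, norm_neg, norm_one, one_pow, one_mul]
    exact h4
  exact_mod_cast h6

variable {l : ℕ}

theorem natAbs_det_le' (θ : Module.End ℤ (Fin l → ℤ)) {m : ℕ} (hm : 0 < m) (hθ : θ ^ m = 1) (q : ℕ) :
    (LinearMap.det (θ - ((q : ℕ) : ℤ) • (1 : Module.End ℤ (Fin l → ℤ)))).natAbs ≤ (q + 1) ^ l := by
  have h1 : LinearMap.toMatrix' (θ ^ m) = LinearMap.toMatrix' θ ^ m := by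
    have := map_pow (LinearMap.toMatrixAlgEquiv' (R := ℤ) (n := Fin l)) θ m
    exact this
  have h2 : LinearMap.toMatrix' θ ^ m = 1 := by
    rw [← h1, hθ]
    exact LinearMap.toMatrix'_one
  have h3 := natAbs_det_le (LinearMap.toMatrix' θ) hm h2 q
  rw [← LinearMap.det_toMatrix', map_sub, map_smul]
  have h4 : LinearMap.toMatrix' (1 : Module.End ℤ (Fin l → ℤ)) = 1 := LinearMap.toMatrix'_one
  rw [h4]
  exact h3

/-- `det (θ - q)` is not divisible by a divisor of `q`, for invertible `θ` -/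
theorem not_dvd_det (θ : Module.End ℤ (Fin l → ℤ)) {m : ℕ} (hm : 0 < m) (hθ : θ ^ m = 1) {q r : ℕ} (hr : r.Prime)
    (hq : r ∣ q) : ¬ (r : ℤ) ∣ LinearMap.det (θ - ((q : ℕ) : ℤ) • (1 : Module.End ℤ (Fin l → ℤ))) := by
  intro hd
  rw [← LinearMap.det_toMatrix', map_sub, map_smul] at hd
  have h4 : LinearMap.toMatrix' (1 : Module.End ℤ (Fin l → ℤ)) = 1 := LinearMap.toMatrix'_one
  rw [h4] at hd
  have hfr : Fact r.Prime := ⟨hr⟩
  have h1 : ((LinearMap.toMatrix' θ - ((q : ℕ) : ℤ) • (1 : Matrix (Fin l) (Fin l) ℤ)).det : ZMod r) = 0 :=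
    (ZMod.intCast_zmod_eq_zero_iff_dvd _ r).2 hd
  have h2 := RingHom.map_det (Int.castRingHom (ZMod r)) (LinearMap.toMatrix' θ -
    ((q : ℕ) : ℤ) • (1 : Matrix (Fin l) (Fin l) ℤ))
  have h3 : (Int.castRingHom (ZMod r)).mapMatrix (LinearMap.toMatrix' θ -
      ((q : ℕ) : ℤ) • (1 : Matrix (Fin l) (Fin l) ℤ)) = (Int.castRingHom (ZMod r)).mapMatrix (LinearMap.toMatrix' θ) := by
    rw [map_sub]
    have h5 : (Int.castRingHom (ZMod r)).mapMatrix (((q : ℕ) : ℤ) • (1 : Matrix (Fin l) (Fin l) ℤ)) = 0 := by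
      ext i j
      have h6 : ((q : ℕ) : ZMod r) = 0 := (ZMod.natCast_eq_zero_iff q r).2 hq
      rw [RingHom.mapMatrix_apply, Matrix.map_apply, Matrix.smul_apply, smul_eq_mul, map_mul, Matrix.zero_apply]
      have h7 : (Int.castRingHom (ZMod r)) ((q : ℕ) : ℤ) = 0 := by
        rw [map_natCast, h6]
      rw [h7, zero_mul]
    rw [h5, sub_zero]
  rw [h3, ← RingHom.map_det] at h2
  have h5 : ((LinearMap.toMatrix' θ).det : ZMod r) = 0 := by
    have h6 : (Int.castRingHom (ZMod r)) (LinearMap.toMatrix' θ - ((q : ℕ) : ℤ) • (1 : Matrix (Fin l) (Fin l) ℤ)).det = 0 := h1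
    rw [h2] at h6
    exact h6
  have h6 : (LinearMap.toMatrix' θ).det ^ m = 1 := by
    rw [← Matrix.det_pow]
    have h7 : LinearMap.toMatrix' (θ ^ m) = LinearMap.toMatrix' θ ^ m := by
      have := map_pow (LinearMap.toMatrixAlgEquiv' (R := ℤ) (n := Fin l)) θ m
      exact this
    rw [← h7, hθ, h4, Matrix.det_one]
  have h7 := congrArg (Int.cast : ℤ → ZMod r) h6
  rw [Int.cast_pow, h5, zero_pow hm.ne', Int.cast_one] at h7
  exact one_ne_zero h7.symm

end Cfsg.Agent.H197.Ab.DetBound
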