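import Cfsg.Agent.H197.Ab.TorLift
import Cfsg.Agent.H197.Ab.DetBound
import Cfsg.Agent.H720.TorusReal
import Cfsg.Agent.H378.TorChar
import Cfsg.Agent.H795.SetCent
import Cfsg.Agent.H157.Ab.StmtX3

/-!
# The torus bound (helper197)

* `card_toral_le` : a finite toral group of fixed points of a Frobenius map has order at most `(q + 1) ^ l`;
* `card_le` : an abelian `r'`-group of fixed points has order at most `|W|_{r'} (q + 1) ^ l`;
* `x3 : X3`.
-/

set_option autoImplicit false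
set_option linter.unusedSectionVars false

namespace Cfsg.Agent.H197.Ab.X3

open CoxeterSystem Cfsg Cfsg.Lie Cfsg.Lie.ChevalleyDatum
open Cfsg.Agent.ChevalleyStructure Cfsg.Agent.ChevalleyStructure.Elts Cfsg.Agent.ChevalleyStructure.CoxeterGeom
  Cfsg.Agent.ChevalleyStructure.CoxeterGeomTypes Cfsg.Agent.ChevalleyStructure.NPerm
open Cfsg.Agent.Tits.Roots Cfsg.Agent.Tits.Core Cfsg.Agent.Nodes Cfsg.Agent.Nodes.Reps Cfsg.Agent.Nodes.BNOf
  Cfsg.Agent.Nodes.RGDChev Cfsg.Agent.Nodes.Bruhat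
open Cfsg.Agent.KFacts.RgdField Cfsg.Agent.KFacts.RgdChevCoord Cfsg.Agent.BpExc.TorCent Cfsg.Agent.BpExc.TorChev
open Cfsg.Agent.GpExc.Field Cfsg.Agent.BpExc.Tow Cfsg.Agent.BpExc.TowChev Cfsg.Agent.BpExc.Fr
  Cfsg.Agent.BpExc.LangFr Cfsg.Agent.LangThm Cfsg.Agent.BpExc Cfsg.Agent.H129.TorusChar
  Cfsg.Agent.H129.TorusMain Cfsg.Agent.H378.TorDual Cfsg.Agent.H720.TorusReal

universe u v

/-- the character of a multiplicative function -/
def chOf {l : ℕ} {k : Type u} [Field k] {φ : (Fin l → ℤ) → k} (h : IsMC φ) : Ch l k where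
  toFun x := ⟨φ (Multiplicative.toAdd x), φ (-Multiplicative.toAdd x), by rw [← h.add, add_neg_cancel, h.zero],
    by rw [← h.add, neg_add_cancel, h.zero]⟩
  map_one' := Units.ext h.zero
  map_mul' _ _ := Units.ext (h.add _ _)

theorem chOf_apply {l : ℕ} {k : Type u} [Field k] {φ : (Fin l → ℤ) → k} (h : IsMC φ) (x : Fin l → ℤ) :
    ((chOf h (Multiplicative.ofAdd x) : kˣ) : k) = φ x := rfl

variable {D : ChevalleyDatum} {l : ℕ} {M : CoxeterMatrix (Fin l)} (hp : IsType D l M) {k : Type u} [Field k]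
  {W : Type*} [Group W] (cs : CoxeterSystem M W) {r e : ℕ} [Fact r.Prime] [CharP k r] {σ : MulAut ↥(D.group k)}
  {g : (Fin l → ℤ) ≃+ (Fin l → ℤ)}

include hp cs in
/-- **Toral groups of fixed points.** -/
theorem card_toral_le [IsAlgClosed k] [Finite W] (hk : LocFin k) (he : 0 < e) (hσ : IsFrob r e σ)
    (F : Fr cs hp.isCartan (TT D k) (XX D l k) σ g) (B : Subgroup ↥(D.group k)) [Finite ↥B]
    (hfix : ∀ x ∈ B, σ x = x) {y : ↥(D.group k)} (hy : ∀ x ∈ B, y * x * y⁻¹ ∈ TT D k) :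
    Nat.card ↥B ≤ (r ^ e + 1) ^ l := by
  have hN : NSys M (TT D k) (nc hp k) := H378.TorChar.nsysL hp cs hk r
  -- one element of the Weyl group
  obtain ⟨w, n, hn, hnt⟩ : ∃ (w : W) (n : ↥(D.group k)), Rp cs hN w n ∧
      ∀ x ∈ B, n * σ (y * x * y⁻¹) * n⁻¹ = y * x * y⁻¹ := by
    have H := tow hp cs hk r
    have C := coordsL hp cs hk r
    rw [← TL_eq hp hk, ← XL_eq hp hk] at C
    have hcG : y * (σ y)⁻¹ ∈ GG cs hp.isCartan (TL (Tj hp (k := k))) (XL (Xj hp)) := by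
      rw [GG_eq_top hp cs hk]; exact Subgroup.mem_top _
    obtain ⟨m', -, w, n, hn, hnt, -⟩ := H795.SetCent.exists_formZ H C (ι := ↥B)
      (s := fun x => σ (y * x * y⁻¹)) (t := fun x => y * (x : ↥(D.group k)) * y⁻¹)
      (fun x => by rw [TL_eq hp hk]; exact (F.tor _).2 (hy _ x.2))
      (fun x => by rw [TL_eq hp hk]; exact hy _ x.2) hcG
      (fun x => by
        show (y * (σ y)⁻¹) * σ (y * x * y⁻¹) = y * x * y⁻¹ * (y * (σ y)⁻¹)
        rw [map_mul, map_mul, map_inv, hfix _ x.2]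
        group)
    have key : ∀ (T : Subgroup ↥(D.group k)) (h1 : NSys M T (nc hp k)) (h2 : T = TT D k), Rp cs h1 w n →
        Rp cs hN w n := by
      intro T h1 h2 h3
      subst h2
      exact h3
    refine ⟨w, n, key _ _ (TL_eq hp hk) hn, fun x hx => ?_⟩
    have h1 : n * σ (y * x * y⁻¹) = y * x * y⁻¹ * n := hnt ⟨x, hx⟩
    rw [h1]; group
  have htau : ∀ x ∈ B, ∀ v, cX hp (y * x * y⁻¹) (theta hp cs w g v) = cX hp (y * x * y⁻¹) v ^ r ^ e :=
    fun x hx => (tau_iff hp cs hk hσ F hn (hy x hx)).1 (hnt x hx)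
  -- the lattice endomorphism
  set Θ : Module.End ℤ (Fin l → ℤ) := (theta hp cs w g).toIntLinearMap with hΘ
  have hΘa : ∀ v, Θ v = rep cs hp.isCartan w (g v) := fun _ => rfl
  obtain ⟨m, hm, hper⟩ := exists_period' hp cs ((fr_conj hp cs hk r hn).mul F)
  have hΘm : Θ ^ m = 1 := by
    refine LinearMap.ext fun v => ?_
    rw [Module.End.pow_apply, Module.End.one_apply]
    exact hper v
  set q := r ^ e with hq
  have hrq : r ∣ q := dvd_pow_self r he.ne'
  set f : Module.End ℤ (Fin l → ℤ) := Θ - ((q : ℕ) : ℤ) • (1 : Module.End ℤ (Fin l → ℤ)) with hf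
  have hdet : ((LinearMap.det f : ℤ) : k) ≠ 0 := by
    intro h0
    exact DetBound.not_dvd_det Θ hm hΘm (Fact.out : r.Prime) hrq ((CharP.intCast_eq_zero_iff k r _).1 h0)
  have hcard := card_kerOf (k := k) hdet
  have hdet0 : LinearMap.det f ≠ 0 := by
    intro h0
    apply hdet
    rw [h0, Int.cast_zero]
  have hfin : Finite ↥(KerOf k f) := by
    apply Nat.finite_of_card_ne_zero
    rw [hcard]
    exact Int.natAbs_ne_zero.2 hdet0
  have hbound : Nat.card ↥(KerOf k f) ≤ (q + 1) ^ l := by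
    rw [hcard]
    exact DetBound.natAbs_det_le' Θ hm hΘm q
  refine le_trans ?_ hbound
  refine Nat.card_le_card_of_injective (fun x : ↥B => (⟨chOf (isMC_cX hp (hy x.1 x.2)), ?_⟩ : ↥(KerOf k f))) ?_
  · rw [mem_kerOf]
    intro v
    apply Units.ext
    rw [chOf_apply]
    have h1 : f v = theta hp cs w g v - ((q : ℕ) : ℤ) • v := by
      rw [hf, LinearMap.sub_apply, LinearMap.smul_apply, Module.End.one_apply]
      rfl
    rw [h1, (isMC_cX hp (hy x.1 x.2)).sub, htau x.1 x.2, (isMC_cX hp (hy x.1 x.2)).zsmul, zpow_natCast, Units.val_one]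
    exact div_self (pow_ne_zero _ ((isMC_cX hp (hy x.1 x.2)).ne_zero v))
  · intro a b hab
    have h1 : chOf (isMC_cX hp (hy a.1 a.2)) = chOf (isMC_cX hp (hy b.1 b.2)) := congrArg Subtype.val hab
    have h2 : y * (a : ↥(D.group k)) * y⁻¹ = y * b * y⁻¹ := by
      refine cX_inj hp (hy a.1 a.2) (hy b.1 b.2) fun i => ?_
      have h3 := congrArg (fun c : Ch l k => ((c (Multiplicative.ofAdd (sr i)) : kˣ) : k)) h1
      exact h3
    exact Subtype.ext (mul_left_cancel (mul_right_cancel h2))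

include hp in
/-- **The torus bound.** -/
theorem card_le [IsAlgClosed k] (hk : LocFin k) {G : Type v} [Group G] [Finite G] (f : G →* ↥(D.group k))
    (hf : Function.Injective f) (he : 0 < e) (hσ : IsFrob r e σ)
    (F : Fr M.toCoxeterSystem hp.isCartan (TT D k) (XX D l k) σ g) (hfix : ∀ x, σ (f x) = f x)
    (A : Subgroup G) (hA : IsMulCommutative A) (hrA : ¬ r ∣ Nat.card A) :
    ∃ m a, Nat.card A = a * m ∧ m ∣ Nat.card M.Group ∧ a ≤ (r ^ e + 1) ^ l := by
  have hW := finite_W hp (M.toCoxeterSystem)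
  have hcomm : ∀ x ∈ A, ∀ y ∈ A, x * y = y * x := by
    intro x hx y hy
    exact congrArg Subtype.val (mul_comm' (⟨x, hx⟩ : ↥A) ⟨y, hy⟩)
  have hcardA : Nat.card ↥(A.map f) = Nat.card ↥A := Nat.card_congr (A.equivMapOfInjective f hf).toEquiv.symm
  have hfinA : Finite ↥(A.map f) := Finite.of_equiv _ (A.equivMapOfInjective f hf).toEquiv
  obtain ⟨B₀, y, m, h1, h2, h3, h4⟩ := TorLift.exists_toral_k hp r (TorLift.hAlg_of_locFin hk) (A.map f) (by
    rintro _ ⟨x, hx, rfl⟩ _ ⟨y, hy, rfl⟩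
    rw [← map_mul, ← map_mul, hcomm x hx y hy]) (by rw [hcardA]; exact hrA)
  have hfinB : Finite ↥B₀ := Finite.of_injective _ (Subgroup.inclusion_injective h1)
  refine ⟨m, Nat.card ↥B₀, by rw [← hcardA]; exact h3, h4, ?_⟩
  refine card_toral_le hp M.toCoxeterSystem hk he hσ F B₀ (fun x hx => ?_) h2
  obtain ⟨x', -, rfl⟩ := h1 hx
  exact hfix x'

/-- a divisor prime to `r` divides the prime to `r` part -/
theorem le_cop {r n m : ℕ} (hr : r.Prime) (hn : n ≠ 0) (hm : m ∣ n) (hrm : ¬ r ∣ m) : m ≤ H157.Ab.cop r n := by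
  unfold H157.Ab.cop
  refine Nat.le_of_dvd (Nat.ordCompl_pos r hn) ?_
  have h1 : Nat.Coprime m (r ^ n.factorization r) :=
    (Nat.Coprime.pow_left _ ((Nat.Prime.coprime_iff_not_dvd hr).2 hrm)).symm
  have h2 : m ∣ r ^ n.factorization r * (n / r ^ n.factorization r) := by
    rw [Nat.ordProj_mul_ordCompl_eq_self]
    exact hm
  exact h1.dvd_of_dvd_mul_left h2

/-- **The torus bound**, the statement of helper157. -/
theorem x3 : H157.Ab.X3 := by
  intro D l M hp k _ r _ _ _ hk G _ _ f hf e σ g he hσ F hfix A hA hrA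
  have hW := finite_W hp (M.toCoxeterSystem)
  obtain ⟨m, a, h1, h2, h3⟩ := card_le hp hk f hf he hσ F hfix A hA hrA
  have h4 : ¬ r ∣ m := fun hd => hrA (hd.trans (Dvd.intro_left _ h1.symm))
  have h5 := le_cop (Fact.out : r.Prime) Nat.card_pos.ne' h2 h4
  rw [h1, mul_comm]
  exact Nat.mul_le_mul h5 h3

end Cfsg.Agent.H197.Ab.X3
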