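import Cfsg.Agent.H197.Ab.TorFin
import Cfsg.Agent.H944.TorAnyChev
import Cfsg.Agent.BpExc.TowChev

/-!
# A toral subgroup of small index in an abelian `r'`-group of `D.group k`

* `hAlg_of_locFin`;
* `exists_toral_k` : `B ≤ D.group k` finite, abelian, of order prime to the characteristic: there is `B₀ ≤ B`
  conjugate into the torus with `|B : B₀|` dividing `|W|`.
-/

set_option autoImplicit false
set_option linter.unusedSectionVars false

namespace Cfsg.Agent.H197.Ab.TorLift

open CoxeterSystem Cfsg.Agent.ChevalleyStructure.CoxeterGeom Cfsg.Agent.Tits.Roots Cfsg.Agent.Tits.Core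
  Cfsg.Agent.Nodes.Reps Cfsg.Agent.Nodes.BNOf Cfsg.Agent.Nodes.Bruhat
  Cfsg.Agent.Nodes.OppDec Cfsg.Agent.Nodes.RGDChev
  Cfsg.Agent.KFacts.RgdAut Cfsg.Agent.KFacts.RgdDiag Cfsg.Agent.KFacts.RgdRigid
  Cfsg.Agent.KFacts.RgdField Cfsg.Agent.KFacts.RgdChevCoord
  Cfsg.Agent.CpAut.RgdFix Cfsg.Agent.CpAut.RgdSub
open Cfsg.Lie Cfsg.Agent.ChevalleyStructure Cfsg.Agent.ChevalleyStructure.Elts
  Cfsg.Agent.ChevalleyStructure.NPerm Cfsg.Agent.ChevalleyStructure.CoxeterGeomTypes
  Cfsg.Agent.ChevStructure.FieldMap Cfsg.Agent.BpExc.TorRgd Cfsg.Agent.BpExc.TorAll Cfsg.Agent.BpExc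
  Cfsg.Agent.H944.TorAny Cfsg.Agent.BpExc.TowChev

universe u

theorem hAlg_of_locFin {k : Type u} [Field k] {r : ℕ} [Fact r.Prime] [CharP k r] (hk : LocFin k) : HAlg r k := by
  intro a
  obtain ⟨E, hE, hS⟩ := hk {a} (Set.finite_singleton a)
  have := Fintype.ofFinite ↥E
  have : CharP ↥E r := by
    have h1 : Function.Injective (E.subtype) := E.subtype_injective
    exact (RingHom.charP_iff _ h1 r).2 inferInstance
  obtain ⟨n, -, hn⟩ := FiniteField.card ↥E r
  refine ⟨n, n.pos, ?_⟩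
  have h2 := FiniteField.pow_card (⟨a, hS rfl⟩ : ↥E)
  rw [hn] at h2
  exact congrArg Subtype.val h2

variable {D : ChevalleyDatum} {l : ℕ} {M : CoxeterMatrix (Fin l)} (hp : IsType D l M)
  (p : ℕ) [Fact p.Prime]

section Fin

variable {K : Type u} [Field K] [Finite K] [CharP K p] {W : Type*} [Group W] (cs : CoxeterSystem M W)

include p in
/-- the centraliser of a set of torus elements in a root group -/
theorem card_root_centralizer {Z : Set ↥(D.group K)} (hZ : Z ⊆ (TT D K : Set ↥(D.group K))) {a : Fin l → ℤ}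
    (ha : IsRoot cs hp.isCartan a) : Nat.card ↥(XX D l K a ⊓ Subgroup.centralizer Z) = 1 ∨
      Nat.card ↥(XX D l K a ⊓ Subgroup.centralizer Z) = Nat.card K := by
  classical
  have C := coords (K := K) hp cs p
  obtain ⟨r, hr, rfl⟩ := (isRoot_iff hp cs a).1 ha
  have hinj := (C.coord _ ha).inj
  have hmem := (C.coord _ ha).mem
  by_cases hall : ∀ t ∈ Z, ch hp (vec D l r) t = 1
  · right
    have h1 : XX D l K (vec D l r) ⊓ Subgroup.centralizer Z = XX D l K (vec D l r) := by
      rw [inf_eq_left]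
      intro x hx
      obtain ⟨b, rfl⟩ := (hmem x).1 hx
      rw [Subgroup.mem_centralizer_iff]
      intro t ht
      have h2 := (act hp hr (hZ ht)).2 b
      rw [hall t ht, one_mul, mul_inv_eq_iff_eq_mul] at h2
      exact h2
    rw [h1]
    symm
    refine Nat.card_congr (Equiv.ofBijective (fun b => ⟨xc hp (vec D l r) b, (hmem _).2 ⟨b, rfl⟩⟩) ⟨?_, ?_⟩)
    · intro b b' e
      exact hinj (congrArg Subtype.val e)
    · rintro ⟨x, hx⟩
      obtain ⟨b, rfl⟩ := (hmem x).1 hx
      exact ⟨b, rfl⟩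
  · left
    push Not at hall
    obtain ⟨t, ht, hne⟩ := hall
    have h1 : XX D l K (vec D l r) ⊓ Subgroup.centralizer Z = ⊥ := by
      rw [eq_bot_iff]
      rintro x ⟨hx, hx'⟩
      obtain ⟨b, rfl⟩ := (hmem x).1 hx
      have h2 := (act hp hr (hZ ht)).2 b
      have h3 := Subgroup.mem_centralizer_iff.1 hx' t ht
      rw [h3, mul_inv_cancel_right] at h2
      have h4 := hinj h2
      have hb : b = 0 := by
        by_contra hb
        apply hne
        have h5 : (ch hp (vec D l r) t - 1) * b = 0 := by rw [sub_mul, one_mul, ← h4, sub_self]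
        rcases mul_eq_zero.1 h5 with h6 | h6
        · exact sub_eq_zero.1 h6
        · exact absurd h6 hb
      rw [hb, (C.coord _ ha).zero]
      exact Subgroup.one_mem _
    rw [h1, Subgroup.card_bot]

end Fin

variable {k : Type u} [Field k] [IsAlgClosed k] [CharP k p]

/-- the group of a finite subfield inside `D.group k` -/
noncomputable def up (m : ℕ) : ↥(D.group ↥(EE p m : Subfield k)) →* ↥(D.group k) :=
  ((glm D (EE p m)).comp (D.group ↥(EE p m : Subfield k)).subtype).codRestrict (D.group k) fun x =>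
    map_group_le hp p ⟨(x : GL D.Idx ↥(EE p m : Subfield k)), x.2, rfl⟩

theorem coe_up (m : ℕ) (x : ↥(D.group ↥(EE p m : Subfield k))) :
    ((up hp p m x : ↥(D.group k)) : GL D.Idx k) = glm D (EE p m) (x : GL D.Idx ↥(EE p m : Subfield k)) := rfl

theorem up_injective (m : ℕ) : Function.Injective (up (k := k) hp p m) := by
  intro x y h
  apply Subtype.ext
  apply glm_injective (EE p m)
  exact congrArg Subtype.val h

include hp in
/-- **A toral subgroup of small index.** -/
theorem exists_toral_k (hk : HAlg p k) (B : Subgroup ↥(D.group k)) [Finite ↥B]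
    (hcomm : ∀ x ∈ B, ∀ y ∈ B, x * y = y * x) (hB : ¬ p ∣ Nat.card ↥B) :
    ∃ (B₀ : Subgroup ↥(D.group k)) (y : ↥(D.group k)) (m : ℕ), B₀ ≤ B ∧ (∀ x ∈ B₀, y * x * y⁻¹ ∈ TT D k) ∧
      Nat.card ↥B = Nat.card ↥B₀ * m ∧ m ∣ Nat.card M.Group := by
  classical
  have hpp : p.Prime := Fact.out
  have hW := finite_W hp (M.toCoxeterSystem)
  have hW0 : Nat.card M.Group ≠ 0 := Nat.card_pos.ne'
  set q := Nat.card ↥B with hqdef
  have hq0 : q ≠ 0 := Nat.card_pos.ne'
  set e := Nat.card M.Group with hedef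
  have hcop : p.Coprime (q ^ (e + 1)) :=
    Nat.Coprime.pow_right _ ((Nat.Prime.coprime_iff_not_dvd hpp).2 hB)
  -- the level
  have hlev : ∀ x : ↥B, ∃ m, 0 < m ∧ ((x : ↥(D.group k)) : GL D.Idx k) ∈
      (D.group ↥(EE p m : Subfield k)).map (glm D (EE p m)) := fun x => exists_level hp p hk x.1.2
  choose m hm hmx using hlev
  have := Fintype.ofFinite ↥B
  set m0 := ∏ x : ↥B, m x with hm0def
  have hm0 : 0 < m0 := Finset.prod_pos fun x _ => hm x
  set N := m0 * (q ^ (e + 1)).totient with hNdef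
  have hN : 0 < N := Nat.mul_pos hm0 (Nat.totient_pos.2 (pow_pos (Nat.pos_of_ne_zero hq0) _))
  have hpN : p ^ N ≡ 1 [MOD q ^ (e + 1)] := by
    rw [hNdef, mul_comm, pow_mul]
    have := (Nat.ModEq.pow_totient hcop).pow m0
    rwa [one_pow] at this
  have hrange : ∀ x : ↥(D.group k), x ∈ B → ∃ x', up hp p N x' = x := by
    intro x hx
    have h1 : m ⟨x, hx⟩ ∣ N := (Finset.dvd_prod_of_mem m (Finset.mem_univ _)).trans (Dvd.intro _ rfl)
    obtain ⟨x', hx', e'⟩ := map_group_mono hp p h1 (hmx ⟨x, hx⟩)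
    exact ⟨⟨x', hx'⟩, Subtype.ext e'⟩
  have hfinN : Finite ↥(EE p N : Subfield k) := finite_EE p hN
  have : CharP ↥(EE p N : Subfield k) p := charP_fixF p _
  have : Finite (GL D.Idx ↥(EE p N : Subfield k)) := inferInstance
  have hGfin : Finite ↥(D.group ↥(EE p N : Subfield k)) := inferInstance
  have R := rgd (K := ↥(EE p N : Subfield k)) hp M.toCoxeterSystem p
  have hG := GG_eq_top (T := TT D ↥(EE p N : Subfield k)) (G1_eq_top (K := ↥(EE p N : Subfield k)) hp M.toCoxeterSystem)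
  have hcardK : Nat.card ↥(EE p N : Subfield k) = p ^ N := card_EE p hN
  set B' : Subgroup ↥(D.group ↥(EE p N : Subfield k)) := B.comap (up hp p N) with hB'
  have hmapB : B'.map (up hp p N) = B := by
    apply le_antisymm (Subgroup.map_comap_le _ _)
    intro x hx
    obtain ⟨x', rfl⟩ := hrange x hx
    exact ⟨x', hx, rfl⟩
  have hcardB : Nat.card ↥B' = q := by
    have h0 : Nat.card ↥(B'.map (up hp p N)) = Nat.card ↥B' :=
      Nat.card_congr (B'.equivMapOfInjective (up hp p N) (up_injective hp p N)).toEquiv.symm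
    rw [← h0, hmapB]
  obtain ⟨B₀, S, m', h1, h2, h3, h4⟩ := TorFin.exists_toral R hG q B' hcardB
    (fun x hx y hy => up_injective hp p N (by
      rw [map_mul, map_mul]
      exact hcomm _ hx _ hy)) hB (by
    intro s hs hsq Z hZ a ha
    have hle : (Nat.card M.Group).factorization s + 1 ≤ e + 1 :=
      Nat.succ_le_succ (Nat.factorization_lt s hW0).le
    have hmod : p ^ N ≡ 1 [MOD s ^ ((Nat.card M.Group).factorization s + 1)] :=
      hpN.of_dvd ((pow_dvd_pow s hle).trans (pow_dvd_pow_of_dvd hsq _))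
    rcases card_root_centralizer (l := l) hp p M.toCoxeterSystem hZ ha with h5 | h5
    · rw [h5]
    · rw [h5, hcardK]
      exact hmod)
  have hB0q : ¬ p ∣ Nat.card ↥B₀ := fun hd => hB (hd.trans (Dvd.intro _ h3.symm))
  obtain ⟨y, hy⟩ := TorFin.exists_conj_le_T' R hG hB0q (S := S) (fun x hx => h2 x hx)
  refine ⟨B₀.map (up hp p N), up hp p N y, m', ?_, ?_, ?_, h4⟩
  · rw [← hmapB]
    exact Subgroup.map_mono h1
  · rintro _ ⟨x, hx, rfl⟩
    rw [← map_inv, ← map_mul, ← map_mul]
    exact glm_diag hp (EE p N) (hy x hx)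
  · have h0 : Nat.card ↥(B₀.map (up hp p N)) = Nat.card ↥B₀ :=
      Nat.card_congr (B₀.equivMapOfInjective (up hp p N) (up_injective hp p N)).toEquiv.symm
    rw [h0]
    exact h3

end Cfsg.Agent.H197.Ab.TorLift
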